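/-
Bit matrices of size 78 packed into one number: a product takes 78 steps.

Main result: `evalB_eq_of_packed`.
-/
import Cfsg.Agent.Lib.BitMat.H1

set_option autoImplicit false

namespace Cfsg.Agent.Fi22E6

open Cfsg.Agent.BitMat

/-- Columns in blocks of 78 bits. -/
def packB : List ℕ → ℕ
  | [] => 0
  | b :: bs => b + 2 ^ 78 * packB bs

/-- The first bit of each of `m` blocks. -/
def maskP : ℕ → ℕ
  | 0 => 0
  | m + 1 => 1 + 2 ^ 78 * maskP m

/-- The product of a list of columns and a packed matrix, `mask` marking the first bits of the blocks. -/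
def mulP (mask : ℕ) : List ℕ → ℕ → ℕ
  | [], _ => 0
  | c :: cs, P => ((P &&& mask) * c) ^^^ mulP mask cs (P >>> 1)

/-- All columns fit into a block. -/
def bddB (L : List ℕ) : Bool := L.length == 78 && L.all fun c => decide (c < 2 ^ 78)

theorem appB_lt : ∀ {A : List ℕ} (v : ℕ), (∀ c ∈ A, c < 2 ^ 78) → appB A v < 2 ^ 78
  | [], _, _ => by simp [appB]
  | c :: cs, v, h => by
    rw [appB]
    refine Nat.xor_lt_two_pow ?_ (appB_lt _ fun x hx => h x (List.mem_cons_of_mem _ hx))
    split
    · exact h c List.mem_cons_self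
    · exact Nat.two_pow_pos _

/-- `b` agrees with the first block of `P` up to `n` bits. -/
theorem mulP_succ (m : ℕ) : ∀ (A : List ℕ) (P b : ℕ), (∀ c ∈ A, c < 2 ^ 78) →
    (∀ i < A.length, Nat.testBit b i = Nat.testBit P i) →
    mulP (maskP (m + 1)) A P = appB A b + 2 ^ 78 * mulP (maskP m) A (P >>> 78)
  | [], _, _, _, _ => by simp [mulP, appB]
  | c :: cs, P, b, hA, hb => by
    have hc : c < 2 ^ 78 := hA c List.mem_cons_self
    have ih := mulP_succ m cs (P >>> 1) (b >>> 1) (fun x hx => hA x (List.mem_cons_of_mem _ hx)) fun i hi => by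
      rw [Nat.testBit_shiftRight, Nat.testBit_shiftRight]
      exact hb (1 + i) (by simp only [List.length_cons]; omega)
    rw [← Nat.shiftRight_add, show 1 + 78 = 78 + 1 from rfl, Nat.shiftRight_add] at ih
    set hd := if Nat.testBit b 0 then c else 0 with hhd
    have hlow : hd < 2 ^ 78 := by
      rw [hhd]; split
      · exact hc
      · exact Nat.two_pow_pos _
    have hmask : maskP (m + 1) % 2 ^ 78 = 1 ∧ maskP (m + 1) / 2 ^ 78 = maskP m := by
      rw [maskP]
      constructor
      · rw [Nat.add_mul_mod_self_left, Nat.one_mod_eq_one.2 (by norm_num)]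
      · rw [Nat.add_mul_div_left _ _ (Nat.two_pow_pos _), Nat.div_eq_of_lt (by norm_num), zero_add]
    have hhead : (P &&& maskP (m + 1)) * c = hd + 2 ^ 78 * ((P >>> 78 &&& maskP m) * c) := by
      have e1 : (P &&& maskP (m + 1)) % 2 ^ 78 = P % 2 := by
        rw [Nat.and_mod_two_pow, hmask.1, Nat.and_one_is_mod, Nat.mod_mod_of_dvd _ (dvd_pow_self 2 (by norm_num))]
      have e2 : (P &&& maskP (m + 1)) / 2 ^ 78 = P >>> 78 &&& maskP m := by
        rw [← Nat.shiftRight_eq_div_pow, Nat.shiftRight_and_distrib, Nat.shiftRight_eq_div_pow (maskP (m + 1)),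
          hmask.2]
      have e3 : hd = P % 2 * c := by
        have h0 := hb 0 (by simp)
        rw [Nat.testBit_zero P] at h0
        rw [hhd, h0]
        rcases Nat.mod_two_eq_zero_or_one P with h | h <;> simp [h]
      conv_lhs => rw [← Nat.mod_add_div (P &&& maskP (m + 1)) (2 ^ 78), e1, e2]
      rw [e3, add_mul, mul_assoc]
    rw [mulP, hhead, ih, appB, ← hhd, mulP]
    refine Nat.eq_of_testBit_eq fun i => ?_
    have hxor : hd ^^^ appB cs (b >>> 1) < 2 ^ 78 :=
      Nat.xor_lt_two_pow hlow (appB_lt _ fun x hx => hA x (List.mem_cons_of_mem _ hx))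
    have hap : appB cs (b >>> 1) < 2 ^ 78 := appB_lt _ fun x hx => hA x (List.mem_cons_of_mem _ hx)
    simp only [Nat.testBit_xor, add_comm _ (2 ^ 78 * _), Nat.testBit_two_pow_mul_add _ hlow,
      Nat.testBit_two_pow_mul_add _ hap, Nat.testBit_two_pow_mul_add _ hxor]
    split <;> simp [Nat.testBit_xor]

theorem mulP_pack : ∀ (B A : List ℕ), A.length ≤ 78 → (∀ c ∈ A, c < 2 ^ 78) → (∀ c ∈ B, c < 2 ^ 78) →
    mulP (maskP B.length) A (packB B) = packB (mulB A B)
  | [], A, _, _, _ => by
    have h : ∀ (L : List ℕ) (P : ℕ), mulP (maskP 0) L P = 0 := by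
      intro L
      induction L with
      | nil => intro P; rfl
      | cons c cs ih =>
        intro P
        have h' : mulP 0 cs (P >>> 1) = 0 := ih _
        simp [mulP, maskP, h']
    rw [List.length_nil, h]
    simp [mulB, packB]
  | b :: bs, A, hlen, hA, hB => by
    have hb : b < 2 ^ 78 := hB b List.mem_cons_self
    rw [List.length_cons, mulP_succ _ A (packB (b :: bs)) b hA]
    · rw [show packB (b :: bs) >>> 78 = packB bs from by
        rw [packB, Nat.shiftRight_eq_div_pow, Nat.add_mul_div_left _ _ (Nat.two_pow_pos _), Nat.div_eq_of_lt hb,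
          zero_add]]
      rw [mulP_pack bs A hlen hA fun x hx => hB x (List.mem_cons_of_mem _ hx)]
      simp [mulB, packB]
    · intro i hi
      rw [packB, add_comm, Nat.testBit_two_pow_mul_add _ hb, if_pos (lt_of_lt_of_le hi hlen)]

theorem packB_inj : ∀ {A B : List ℕ}, A.length = B.length → (∀ c ∈ A, c < 2 ^ 78) → (∀ c ∈ B, c < 2 ^ 78) →
    packB A = packB B → A = B
  | [], [], _, _, _, _ => rfl
  | [], _ :: _, h, _, _, _ => by simp at h
  | _ :: _, [], h, _, _, _ => by simp at h
  | a :: as, b :: bs, hl, hA, hB, h => by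
    have ha : a < 2 ^ 78 := hA a List.mem_cons_self
    have hb : b < 2 ^ 78 := hB b List.mem_cons_self
    simp only [packB] at h
    have h1 : a = b := by
      have e := congrArg (· % 2 ^ 78) h
      simp only [Nat.add_mul_mod_self_left, Nat.mod_eq_of_lt ha, Nat.mod_eq_of_lt hb] at e
      exact e
    subst h1
    have h2 : packB as = packB bs := Nat.eq_of_mul_eq_mul_left (Nat.two_pow_pos 78) (Nat.add_left_cancel h)
    rw [packB_inj (by simpa using hl) (fun x hx => hA x (List.mem_cons_of_mem _ hx))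
      (fun x hx => hB x (List.mem_cons_of_mem _ hx)) h2]

theorem mulP_eq {A B : List ℕ} (hA : bddB A = true) (hB : bddB B = true) :
    mulP (maskP 78) A (packB B) = packB (mulB A B) := by
  simp only [bddB, Bool.and_eq_true, beq_iff_eq, List.all_eq_true, decide_eq_true_eq] at hA hB
  rw [← mulP_pack B A hA.1.le hA.2 hB.2, hB.1]

theorem bddB_mulB {A B : List ℕ} (hA : bddB A = true) (hB : bddB B = true) : bddB (mulB A B) = true := by
  simp only [bddB, Bool.and_eq_true, beq_iff_eq, List.all_eq_true, decide_eq_true_eq] at hA hB ⊢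
  refine ⟨by rw [length_mulB, hB.1], fun c hc => ?_⟩
  simp only [mulB, List.mem_map] at hc
  obtain ⟨v, -, rfl⟩ := hc
  exact appB_lt _ hA.2

theorem bddB_addB {A B : List ℕ} (hA : bddB A = true) (hB : bddB B = true) : bddB (addB A B) = true := by
  simp only [bddB, Bool.and_eq_true, beq_iff_eq, List.all_eq_true, decide_eq_true_eq] at hA hB ⊢
  refine ⟨length_addB hA.1 hB.1, fun c hc => ?_⟩
  simp only [addB] at hc
  obtain ⟨i, hi, rfl⟩ := List.mem_iff_getElem.mp hc
  simp only [List.getElem_zipWith]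
  exact Nat.xor_lt_two_pow (hA.2 _ (List.getElem_mem _)) (hB.2 _ (List.getElem_mem _))

theorem packB_addB : ∀ {A B : List ℕ}, A.length = B.length → (∀ c ∈ A, c < 2 ^ 78) → (∀ c ∈ B, c < 2 ^ 78) →
    packB (addB A B) = packB A ^^^ packB B
  | [], [], _, _, _ => rfl
  | [], _ :: _, h, _, _ => by simp at h
  | _ :: _, [], h, _, _ => by simp at h
  | a :: as, b :: bs, hl, hA, hB => by
    have ha : a < 2 ^ 78 := hA a List.mem_cons_self
    have hb : b < 2 ^ 78 := hB b List.mem_cons_self
    have hab : a ^^^ b < 2 ^ 78 := Nat.xor_lt_two_pow ha hb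
    have ih := packB_addB (A := as) (B := bs) (by simpa using hl) (fun x hx => hA x (List.mem_cons_of_mem _ hx))
      fun x hx => hB x (List.mem_cons_of_mem _ hx)
    show (a ^^^ b) + 2 ^ 78 * packB (addB as bs) = (a + 2 ^ 78 * packB as) ^^^ (b + 2 ^ 78 * packB bs)
    rw [ih]
    refine Nat.eq_of_testBit_eq fun i => ?_
    simp only [Nat.testBit_xor, add_comm _ (2 ^ 78 * _), Nat.testBit_two_pow_mul_add _ ha,
      Nat.testBit_two_pow_mul_add _ hb, Nat.testBit_two_pow_mul_add _ hab]
    split <;> simp [Nat.testBit_xor]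

end Cfsg.Agent.Fi22E6
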