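/-
Matrices of size 78 over the quadratic algebra ω² = ω + 1 over the prime field of characteristic two,
written as two planes of bit columns.

Main result: `toQ_mulPl`.
-/
import Cfsg.Agent.EqLemmas
import Cfsg.Agent.Lib.BitMat.H1
import Cfsg.Agent.Lib.Chev.Matrix
import Cfsg.Prelude.Def_ChevE6
import Mathlib.Algebra.QuadraticAlgebra.Basic

set_option autoImplicit false

namespace Cfsg.Agent.Fi22E6

open Cfsg.Agent.BitMat Cfsg.Lie

/-- The quadratic algebra. -/
abbrev Q4 : Type := QuadraticAlgebra (ZMod 2) 1 1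

/-- The numbering of the coordinates. -/
def eI : chevE6.Idx ≃ Fin 78 := finSumFinEquiv

/-- Two planes. -/
abbrev Pl : Type := List ℕ × List ℕ

/-- The matrix of two planes. -/
def toQ (p : Pl) : Matrix chevE6.Idx chevE6.Idx Q4 :=
  fun i j => ⟨toMat eI p.1 i j, toMat eI p.2 i j⟩

/-- The product of planes. -/
def mulPl (p q : Pl) : Pl :=
  (addB (mulB p.1 q.1) (mulB p.2 q.2), addB (addB (mulB p.1 q.2) (mulB p.2 q.1)) (mulB p.2 q.2))

/-- Both planes have 78 columns. -/
def Long (p : Pl) : Prop := p.1.length = 78 ∧ p.2.length = 78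

theorem long_mulPl (p : Pl) {q : Pl} (hq : Long q) : Long (mulPl p q) := by
  obtain ⟨h1, h2⟩ := hq
  constructor <;> simp [mulPl, length_addB, length_mulB, h1, h2]

theorem toQ_mulPl {p q : Pl} (hp : Long p) (hq : Long q) : toQ (mulPl p q) = toQ p * toQ q := by
  obtain ⟨a, b⟩ := p
  obtain ⟨c, d⟩ := q
  obtain ⟨ha, hb⟩ := hp
  obtain ⟨hc, hd⟩ := hq
  have l : ∀ (x y : List ℕ), y.length = 78 → (mulB x y).length = 78 := fun x y h => (length_mulB x y).trans h
  let reH : Q4 →+ ZMod 2 := AddMonoidHom.mk' (fun z => z.re) (fun _ _ => rfl)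
  let imH : Q4 →+ ZMod 2 := AddMonoidHom.mk' (fun z => z.im) (fun _ _ => rfl)
  refine Matrix.ext fun i j => QuadraticAlgebra.ext ?_ ?_
  · show toMat eI (addB (mulB a c) (mulB b d)) i j = reH (∑ k, toQ (a, b) i k * toQ (c, d) k j)
    rw [map_sum, toMat_addB eI (l a c hc) (l b d hd), toMat_mulB eI ha hc, toMat_mulB eI hb hd]
    simp only [Matrix.add_apply, Matrix.mul_apply, ← Finset.sum_add_distrib]
    exact Finset.sum_congr rfl fun k _ => by simp [reH, toQ]
  · show toMat eI (addB (addB (mulB a d) (mulB b c)) (mulB b d)) i j = imH (∑ k, toQ (a, b) i k * toQ (c, d) k j)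
    rw [map_sum, toMat_addB eI (length_addB (l a d hd) (l b c hc)) (l b d hd), toMat_addB eI (l a d hd) (l b c hc),
      toMat_mulB eI ha hd, toMat_mulB eI hb hc, toMat_mulB eI hb hd]
    simp only [Matrix.add_apply, Matrix.mul_apply, ← Finset.sum_add_distrib]
    exact Finset.sum_congr rfl fun k _ => by simp [imH, toQ]

/-- Entrywise agreement of a root element with planes. -/
def xOK (r : ℕ) (t : Q4) (p : Pl) : Bool :=
  (List.finRange 78).all fun i => (List.finRange 78).all fun j =>
    decide (Chev.xR chevE6 Q4 r t (eI.symm i) (eI.symm j) = toQ p (eI.symm i) (eI.symm j))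

theorem xOK_spec {r : ℕ} {t : Q4} {p : Pl} (h : xOK r t p = true) : Chev.xR chevE6 Q4 r t = toQ p := by
  refine Matrix.ext fun i j => ?_
  simp only [xOK, List.all_eq_true, decide_eq_true_eq] at h
  simpa using h (eI i) (List.mem_finRange _) (eI j) (List.mem_finRange _)

end Cfsg.Agent.Fi22E6
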