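/-
Words in plane matrices, evaluated on packed numbers.

Main results: `toQ_evalPl`, `toQ_eq_of_evalK`.
-/
import Cfsg.Agent.Lib.Fi22E6.Planes
import Cfsg.Agent.Lib.Fi22E6.Packed

set_option autoImplicit false

namespace Cfsg.Agent.Fi22E6

open Cfsg.Agent.BitMat Cfsg.Lie

/-- Both planes fit. -/
def bddP (p : Pl) : Bool := bddB p.1 && bddB p.2

theorem bddP.long {p : Pl} (h : bddP p = true) : Long p := by
  simp only [bddP, bddB, Bool.and_eq_true, beq_iff_eq] at h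
  exact ⟨h.1.1, h.2.1⟩

/-- The identity planes. -/
def idPl : Pl := (idB 78, List.replicate 78 0)

theorem bdd_idPl : bddP idPl = true := by decide +kernel

theorem toQ_idPl : toQ idPl = 1 := by
  refine Matrix.ext fun i j => ?_
  show (⟨toMat eI (idB 78) i j, toMat eI (List.replicate 78 0) i j⟩ : Q4) = _
  rw [toMat_idB, toMat_zero, Matrix.one_apply, Matrix.one_apply]
  split <;> rfl

theorem bdd_mulPl {p q : Pl} (hp : bddP p = true) (hq : bddP q = true) : bddP (mulPl p q) = true := by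
  simp only [bddP, Bool.and_eq_true] at hp hq ⊢
  exact ⟨bddB_addB (bddB_mulB hp.1 hq.1) (bddB_mulB hp.2 hq.2),
    bddB_addB (bddB_addB (bddB_mulB hp.1 hq.2) (bddB_mulB hp.2 hq.1)) (bddB_mulB hp.2 hq.2)⟩

/-- The packed planes. -/
def pk (p : Pl) : ℕ × ℕ := (packB p.1, packB p.2)

/-- The product of planes and packed planes. -/
def mulK (p : Pl) (s : ℕ × ℕ) : ℕ × ℕ :=
  (mulP (maskP 78) p.1 s.1 ^^^ mulP (maskP 78) p.2 s.2,
    mulP (maskP 78) p.1 s.2 ^^^ mulP (maskP 78) p.2 s.1 ^^^ mulP (maskP 78) p.2 s.2)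

theorem packB_addB' {A B : List ℕ} (hA : bddB A = true) (hB : bddB B = true) :
    packB (addB A B) = packB A ^^^ packB B := by
  simp only [bddB, Bool.and_eq_true, beq_iff_eq, List.all_eq_true, decide_eq_true_eq] at hA hB
  exact packB_addB (hA.1.trans hB.1.symm) hA.2 hB.2

theorem pk_mulPl {p q : Pl} (hp : bddP p = true) (hq : bddP q = true) : pk (mulPl p q) = mulK p (pk q) := by
  simp only [bddP, Bool.and_eq_true] at hp hq
  simp only [pk, mulPl, mulK, mulP_eq hp.1 hq.1, mulP_eq hp.2 hq.2, mulP_eq hp.1 hq.2, mulP_eq hp.2 hq.1,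
    packB_addB' (bddB_mulB hp.1 hq.1) (bddB_mulB hp.2 hq.2), packB_addB' (bddB_mulB hp.1 hq.2) (bddB_mulB hp.2 hq.1),
    packB_addB' (bddB_addB (bddB_mulB hp.1 hq.2) (bddB_mulB hp.2 hq.1)) (bddB_mulB hp.2 hq.2)]

theorem eq_of_pk {p q : Pl} (hp : bddP p = true) (hq : bddP q = true) (h : pk p = pk q) : p = q := by
  simp only [bddP, bddB, Bool.and_eq_true, beq_iff_eq, List.all_eq_true, decide_eq_true_eq] at hp hq
  exact Prod.ext (packB_inj (hp.1.1.trans hq.1.1.symm) hp.1.2 hq.1.2 (congrArg Prod.fst h))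
    (packB_inj (hp.2.1.trans hq.2.1.symm) hp.2.2 hq.2.2 (congrArg Prod.snd h))

/-- The planes of a word. -/
def evalPl (g : ℕ → Pl) : List ℕ → Pl
  | [] => idPl
  | a :: w => mulPl (g a) (evalPl g w)

/-- The packed planes of a word. -/
def evalK (g : ℕ → Pl) : List ℕ → ℕ × ℕ
  | [] => pk idPl
  | a :: w => mulK (g a) (evalK g w)

variable {g : ℕ → Pl}

theorem bdd_evalPl (hg : ∀ a, bddP (g a) = true) : ∀ w, bddP (evalPl g w) = true
  | [] => bdd_idPl
  | a :: w => bdd_mulPl (hg a) (bdd_evalPl hg w)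

theorem evalK_eq (hg : ∀ a, bddP (g a) = true) : ∀ w, evalK g w = pk (evalPl g w)
  | [] => rfl
  | a :: w => by rw [evalK, evalK_eq hg w, evalPl, pk_mulPl (hg a) (bdd_evalPl hg w)]

theorem toQ_evalPl (hg : ∀ a, bddP (g a) = true) {f : ℕ → Matrix chevE6.Idx chevE6.Idx Q4}
    (hf : ∀ a, f a = toQ (g a)) : ∀ w : List ℕ, (w.map f).prod = toQ (evalPl g w)
  | [] => by rw [evalPl, toQ_idPl, List.map_nil, List.prod_nil]
  | a :: w => by
    rw [List.map_cons, List.prod_cons, toQ_evalPl hg hf w, hf, evalPl,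
      toQ_mulPl (bddP.long (hg a)) (bddP.long (bdd_evalPl hg w))]

theorem toQ_eq_of_evalK (hg : ∀ a, bddP (g a) = true) {f : ℕ → Matrix chevE6.Idx chevE6.Idx Q4}
    (hf : ∀ a, f a = toQ (g a)) {u w : List ℕ} (h : evalK g u = evalK g w) :
    (u.map f).prod = (w.map f).prod := by
  rw [toQ_evalPl hg hf, toQ_evalPl hg hf,
    eq_of_pk (bdd_evalPl hg u) (bdd_evalPl hg w) (by rw [← evalK_eq hg, ← evalK_eq hg, h])]

theorem toQ_eq_of_evalK_lit (hg : ∀ a, bddP (g a) = true) {f : ℕ → Matrix chevE6.Idx chevE6.Idx Q4}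
    (hf : ∀ a, f a = toQ (g a)) {u : List ℕ} {p : Pl} (hp : bddP p = true) (h : evalK g u = pk p) :
    (u.map f).prod = toQ p := by
  rw [toQ_evalPl hg hf, eq_of_pk (bdd_evalPl hg u) hp (by rw [← evalK_eq hg, h])]

end Cfsg.Agent.Fi22E6
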