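/-
The root elements used, as functions of their index.
-/
import Cfsg.Agent.Lib.Fi22E6.Eval
import Cfsg.Agent.Lib.Fi22E6.DataGen

set_option autoImplicit false

namespace Cfsg.Agent.Fi22E6

/-- The parameter of a code. -/
def code : ℕ → Q4
  | 0 => 0
  | 1 => 1
  | 2 => QuadraticAlgebra.omega
  | _ => ⟨1, 1⟩

/-- The planes of a root element. -/
def xg4 (i : ℕ) : Pl := (xData.getD i (0, 0, idPl)).2.2

/-- The planes of one of the nine matrices. -/
def yg (k : ℕ) : Pl := yData.getD k idPl

/-- One root element agrees with its planes. -/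
def xCheck (i : ℕ) : Bool :=
  xOK (xData.getD i (0, 0, idPl)).1 (code (xData.getD i (0, 0, idPl)).2.1) (xg4 i)

theorem bdd_data : ((List.range 20).all fun i => bddP (xg4 i)) = true ∧ xData.length = 20 ∧
    ((List.range 9).all fun k => bddP (yg k)) = true ∧ yData.length = 9 := by
  decide +kernel

theorem bdd_xg4 (i : ℕ) : bddP (xg4 i) = true := by
  obtain ⟨h, hl, -, -⟩ := bdd_data
  by_cases hi : i < 20
  · exact List.all_eq_true.mp h i (List.mem_range.mpr hi)
  · rw [xg4, List.getD_eq_default _ _ (by rw [hl]; omega)]; exact bdd_idPl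

theorem bdd_yg (k : ℕ) : bddP (yg k) = true := by
  obtain ⟨-, -, h, hl⟩ := bdd_data
  by_cases hk : k < 9
  · exact List.all_eq_true.mp h k (List.mem_range.mpr hk)
  · rw [yg, List.getD_eq_default _ _ (by rw [hl]; omega)]; exact bdd_idPl

end Cfsg.Agent.Fi22E6
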