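/-
The certificate of the commutant: planes with equal columns and checks.
-/
import Cfsg.Agent.Lib.Fi22E6.GenDefs
import Cfsg.Agent.Lib.Fi22E6.DataCent

set_option autoImplicit false
set_option maxRecDepth 100000

namespace Cfsg.Agent.Fi22E6

open Cfsg.Agent.BitMat

/-- All columns equal to one vector. -/
def vm (u : ℕ × ℕ) : Pl := (List.replicate 78 u.1, List.replicate 78 u.2)

/-- A vector of the orbit. -/
def ov (j : ℕ) : ℕ × ℕ := orbVecs.getD j (0, 0)

/-- The projection on the first vector. -/
def projPl : Pl :=
  ((List.range 78).map fun j => if Nat.beq j fixIdx then (ov 0).1 else 0,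
   (List.range 78).map fun j => if Nat.beq j fixIdx then (ov 0).2 else 0)

/-- The matrix of the vectors. -/
def orbPl : Pl := (orbVecs.map Prod.fst, orbVecs.map Prod.snd)

/-- The sum of planes. -/
def addPl (p q : Pl) : Pl := (addB p.1 q.1, addB p.2 q.2)

/-- The left side of the certificate of the fixed vectors. -/
def fixSum : ℕ × ℕ :=
  fixCoef.foldr (fun c s => let m := mulK c.2 (pk (addPl (yg c.1) idPl)); (m.1 ^^^ s.1, m.2 ^^^ s.2)) (0, 0)

theorem cent_bdd : ((List.range 78).all fun j => bddP (vm (ov j))) = true ∧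
    (fixCoef.all fun c => bddP c.2) = true ∧ bddP projPl = true ∧ bddP orbPl = true ∧ bddP orbInv = true ∧
    orbVecs.length = 78 ∧ orbTree.length = 77 ∧ fixIdx < 78 := by
  decide +kernel

theorem fix_check : fixSum = pk (addPl idPl projPl) ∧
    (fixCoef.all fun c => mulK (yg c.1) (pk (vm (ov 0))) == pk (vm (ov 0))) = true := by
  decide +kernel

theorem tree_check : ((List.range 77).all fun j =>
    Nat.blt (orbTree.getD j (0, 0)).2 (j + 1) &&
      mulK (yg (orbTree.getD j (0, 0)).1) (pk (vm (ov (orbTree.getD j (0, 0)).2))) == pk (vm (ov (j + 1)))) = true := by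
  decide +kernel

theorem inv_check : mulK orbPl (pk orbInv) = pk idPl := by decide +kernel

end Cfsg.Agent.Fi22E6
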