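/-
Kernel checks of root elements, part A.
-/
import Cfsg.Agent.Lib.Fi22E6.GenDefs

set_option autoImplicit false
set_option maxRecDepth 100000

namespace Cfsg.Agent.Fi22E6

theorem xCheck_0 : xCheck 0 = true := by decide +kernel

theorem xCheck_1 : xCheck 1 = true := by decide +kernel

theorem xCheck_2 : xCheck 2 = true := by decide +kernel

theorem xCheck_3 : xCheck 3 = true := by decide +kernel

theorem xCheck_4 : xCheck 4 = true := by decide +kernel

theorem xCheck_5 : xCheck 5 = true := by decide +kernel

theorem xCheck_6 : xCheck 6 = true := by decide +kernel

theorem xCheck_7 : xCheck 7 = true := by decide +kernel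

theorem xCheck_8 : xCheck 8 = true := by decide +kernel

theorem xCheck_9 : xCheck 9 = true := by decide +kernel

end Cfsg.Agent.Fi22E6
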