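/-
Kernel checks of root elements, part B.
-/
import Cfsg.Agent.Lib.Fi22E6.GenDefs

set_option autoImplicit false
set_option maxRecDepth 100000

namespace Cfsg.Agent.Fi22E6

theorem xCheck_10 : xCheck 10 = true := by decide +kernel

theorem xCheck_11 : xCheck 11 = true := by decide +kernel

theorem xCheck_12 : xCheck 12 = true := by decide +kernel

theorem xCheck_13 : xCheck 13 = true := by decide +kernel

theorem xCheck_14 : xCheck 14 = true := by decide +kernel

theorem xCheck_15 : xCheck 15 = true := by decide +kernel

theorem xCheck_16 : xCheck 16 = true := by decide +kernel

theorem xCheck_17 : xCheck 17 = true := by decide +kernel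

theorem xCheck_18 : xCheck 18 = true := by decide +kernel

theorem xCheck_19 : xCheck 19 = true := by decide +kernel

end Cfsg.Agent.Fi22E6
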