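/-
The nine words regrouped into generators of the twisted group.
-/
import Cfsg.Agent.Lib.Fi22E6.Planes

set_option autoImplicit false
set_option maxRecDepth 100000

namespace Cfsg.Agent.Fi22E6

/-- The generators used: root element indices of each. -/
def opGens : List (List ℕ) := [[0], [1], [2], [3], [8, 9], [18, 19], [14, 15], [10, 11], [4, 5], [16, 17], [12, 13], [6, 7]]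

/-- The nine words in the generators. -/
def opWords : List (List ℕ) := [
  [0, 0, 1, 0, 2, 3, 2, 8, 8, 11, 8, 4, 4, 7, 4, 2, 3, 2, 8, 8, 11, 8, 0, 1, 0, 2, 3, 2, 8, 11, 8, 4, 7, 4, 0, 1, 0, 2, 3, 2, 8, 11, 8, 2, 3, 2, 0, 1, 0, 0, 1, 0, 2, 3, 2, 8, 11, 8, 2, 3, 2, 4, 7, 4, 8, 11, 8, 2, 3, 2, 0, 2, 3, 2, 8, 11, 8, 4, 7, 4, 2, 3, 2, 8, 11, 8, 2, 3, 2, 0, 1, 0, 0, 1, 0, 2, 3, 2, 8, 11, 8, 2, 3, 2, 0, 1, 0, 4, 7, 4, 8, 11, 8, 2, 3, 2, 0, 1, 0, 8, 11, 8, 8, 2, 3, 2, 4, 7, 4, 4, 8, 11, 8, 8, 2, 3, 2, 0, 1, 0, 0],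
  [0, 1, 0, 2, 3, 2, 8, 11, 8, 2, 3, 2, 4, 7, 4, 8, 11, 8, 2, 3, 2, 0, 2, 3, 2, 8, 11, 8, 4, 7, 4, 2, 3, 2, 8, 11, 8, 2, 3, 2, 0, 1, 0],
  [0, 0, 1, 0, 2, 2, 3, 2, 8, 11, 8, 4, 7, 4, 2, 2, 3, 2, 8, 11, 8, 2, 2, 3, 2, 0, 1, 0, 2, 3, 2, 8, 11, 8, 4, 7, 4, 2, 3, 2, 8, 11, 8, 2, 3, 2, 0, 0, 1, 0, 0, 1, 0, 2, 3, 2, 8, 11, 8, 2, 3, 2, 4, 7, 4, 8, 11, 8, 2, 3, 2, 0, 2, 3, 2, 8, 11, 8, 4, 7, 4, 2, 3, 2, 8, 11, 8, 2, 3, 2, 0, 1, 0, 0, 1, 0, 0, 2, 3, 2, 8, 11, 8, 2, 3, 2, 4, 7, 4, 8, 11, 8, 2, 3, 2, 0, 1, 0, 2, 3, 2, 2, 8, 11, 8, 2, 3, 2, 2, 4, 7, 4, 8, 11, 8, 2, 3, 2, 2, 0, 1, 0, 0],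
  [2, 3, 2, 8, 11, 8, 4, 7, 4, 0, 1, 0, 2, 3, 2, 8, 11, 8, 2, 3, 2, 0, 1, 0, 0, 1, 0, 2, 3, 2, 8, 11, 8, 2, 3, 2, 4, 7, 4, 8, 11, 8, 2, 3, 2, 0, 2, 3, 2, 8, 11, 8, 4, 7, 4, 2, 3, 2, 8, 11, 8, 2, 3, 2, 0, 1, 0, 0, 1, 0, 2, 3, 2, 8, 11, 8, 2, 3, 2, 0, 1, 0, 4, 7, 4, 8, 11, 8, 2, 3, 2],
  [8, 8, 11, 8, 2, 3, 2, 10, 8, 11, 8, 4, 7, 4, 0, 1, 0, 2, 3, 2, 8, 11, 8, 2, 3, 2, 0, 1, 0, 0, 1, 0, 2, 3, 2, 8, 11, 8, 2, 3, 2, 4, 7, 4, 8, 11, 8, 2, 3, 2, 0, 2, 3, 2, 8, 11, 8, 4, 7, 4, 2, 3, 2, 8, 11, 8, 2, 3, 2, 0, 1, 0, 0, 1, 0, 2, 3, 2, 8, 11, 8, 2, 3, 2, 0, 1, 0, 4, 7, 4, 8, 11, 8, 10, 2, 3, 2, 8, 11, 8, 8],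
  [4, 4, 7, 4, 8, 11, 8, 2, 3, 2, 8, 11, 8, 6, 4, 7, 4, 0, 1, 0, 2, 3, 2, 8, 11, 8, 2, 3, 2, 0, 1, 0, 0, 1, 0, 2, 3, 2, 8, 11, 8, 2, 3, 2, 4, 7, 4, 8, 11, 8, 2, 3, 2, 0, 2, 3, 2, 8, 11, 8, 4, 7, 4, 2, 3, 2, 8, 11, 8, 2, 3, 2, 0, 1, 0, 0, 1, 0, 2, 3, 2, 8, 11, 8, 2, 3, 2, 0, 1, 0, 4, 7, 4, 6, 8, 11, 8, 2, 3, 2, 8, 11, 8, 4, 7, 4, 4],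
  [8, 8, 11, 8, 2, 3, 2, 8, 11, 8, 6, 4, 7, 4, 0, 1, 0, 2, 3, 2, 10, 8, 11, 8, 2, 2, 3, 2, 0, 1, 0, 0, 1, 0, 2, 3, 2, 8, 11, 8, 2, 3, 2, 4, 7, 4, 8, 11, 8, 2, 3, 2, 0, 2, 3, 2, 8, 11, 8, 4, 7, 4, 2, 3, 2, 8, 11, 8, 2, 3, 2, 0, 1, 0, 0, 1, 0, 2, 3, 2, 2, 8, 11, 8, 10, 2, 3, 2, 0, 1, 0, 4, 7, 4, 6, 8, 11, 8, 2, 3, 2, 8, 11, 8, 8],
  [8, 8, 11, 8, 2, 3, 2, 9, 8, 11, 8, 4, 7, 4, 0, 1, 0, 2, 3, 2, 8, 11, 8, 2, 3, 2, 0, 1, 0, 0, 1, 0, 2, 3, 2, 8, 11, 8, 2, 3, 2, 4, 7, 4, 8, 11, 8, 2, 3, 2, 0, 2, 3, 2, 8, 11, 8, 4, 7, 4, 2, 3, 2, 8, 11, 8, 2, 3, 2, 0, 1, 0, 0, 1, 0, 2, 3, 2, 8, 11, 8, 2, 3, 2, 0, 1, 0, 4, 7, 4, 8, 11, 8, 9, 2, 3, 2, 8, 11, 8, 8],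
  [4, 4, 7, 4, 8, 11, 8, 2, 3, 2, 8, 11, 8, 5, 4, 7, 4, 0, 1, 0, 2, 3, 2, 8, 11, 8, 2, 3, 2, 0, 1, 0, 0, 1, 0, 2, 3, 2, 8, 11, 8, 2, 3, 2, 4, 7, 4, 8, 11, 8, 2, 3, 2, 0, 2, 3, 2, 8, 11, 8, 4, 7, 4, 2, 3, 2, 8, 11, 8, 2, 3, 2, 0, 1, 0, 0, 1, 0, 2, 3, 2, 8, 11, 8, 2, 3, 2, 0, 1, 0, 4, 7, 4, 5, 8, 11, 8, 2, 3, 2, 8, 11, 8, 4, 7, 4, 4]]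

end Cfsg.Agent.Fi22E6
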