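/-
The nine matrices as words, and their relations.
-/
import Cfsg.Agent.Lib.Fi22E6.GenDefs
import Cfsg.Agent.Lib.CoxStem.Spider

set_option autoImplicit false
set_option maxRecDepth 100000

namespace Cfsg.Agent.Fi22E6

open CoxStem (adjB edges22 spider e7Word e7Word')

/-- One matrix is the value of its word. -/
def wordCheck (k : ℕ) : Bool := evalK xg4 (fiWords.getD k []) == pk (yg k)

theorem word_check : ((List.range 9).all wordCheck) = true := by decide +kernel

theorem sq_check : ((List.range 9).all fun k => evalK yg [k, k] == pk idPl) = true := by decide +kernel

theorem cox_check : ((List.range 9).all fun x => (List.range 9).all fun y =>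
    if Nat.beq x y then true
    else if adjB edges22 x y then evalK yg [x, y, x] == evalK yg [y, x, y]
    else evalK yg [x, y] == evalK yg [y, x]) = true := by
  decide +kernel

theorem spider_check : evalK yg (List.replicate 10 spider).flatten = pk idPl := by decide +kernel

theorem e7_check : evalK yg (List.replicate 9 e7Word).flatten = pk idPl ∧
    evalK yg (List.replicate 9 e7Word').flatten = pk idPl := by
  decide +kernel

theorem move_check : evalK yg [0, 1] != evalK yg [1, 0] := by decide +kernel

end Cfsg.Agent.Fi22E6
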