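/-
Nine elements of ²E₆(2) satisfying the relations of Fi22.

Main results: `yK_mem`, `exists_fi22Hom`.
-/
import Cfsg.Agent.Lib.Fi22E6.GensA
import Cfsg.Agent.Lib.Fi22E6.GensB
import Cfsg.Agent.Lib.Fi22E6.Rels
import Cfsg.Agent.Lib.Fi22E6.OpData
import Cfsg.Agent.Lib.ChevFoldF4.Fixed
import Cfsg.Agent.Lib.ChevBN.Torus
import Cfsg.Agent.Lib.CoxStem.Fi22

set_option autoImplicit false
set_option maxRecDepth 100000

namespace Cfsg.Agent.Fi22E6

open Cfsg.Lie Cfsg.Lie.ChevalleyDatum Cfsg.Agent.Chev Cfsg.Agent.ChevBN Cfsg.Agent.BitMat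
open Cfsg.Agent.ChevFoldF4 (e6Good)
open CoxStem (wd Rel adjB edges22 spider e7Word e7Word')

/-- The map of the quadratic algebra into a field of characteristic two with a root of ω² = ω + 1. -/
noncomputable def fHom {K : Type*} [Field K] [CharP K 2] (om : K) (h : om * om = om + 1) : Q4 →+* K where
  toFun z := ZMod.castHom (dvd_refl 2) K z.re + ZMod.castHom (dvd_refl 2) K z.im * om
  map_zero' := by simp
  map_one' := by rw [QuadraticAlgebra.re_one, QuadraticAlgebra.im_one, map_one, map_zero, zero_mul, add_zero]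
  map_add' z w := by simp only [QuadraticAlgebra.re_add, QuadraticAlgebra.im_add, map_add]; ring
  map_mul' z w := by
    simp only [QuadraticAlgebra.re_mul, QuadraticAlgebra.im_mul, one_mul, map_add, map_mul]
    linear_combination (-(ZMod.castHom (dvd_refl 2) K z.im) * ZMod.castHom (dvd_refl 2) K w.im) * h

theorem exists_fHom (K : Type*) [Field K] [Fintype K] [CharP K 2] (hK : Fintype.card K = 4) :
    ∃ f : Q4 →+* K, True := by
  classical
  have hcard : Fintype.card Kˣ = 3 := by rw [Fintype.card_units, hK]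
  obtain ⟨u, hu⟩ := Fintype.exists_ne_of_one_lt_card (show 1 < Fintype.card Kˣ by omega) 1
  have h3 : (u : K) ^ 3 = 1 := by
    rw [← Units.val_pow_eq_pow_val, ← hcard, pow_card_eq_one, Units.val_one]
  have hne : (u : K) - 1 ≠ 0 := sub_ne_zero.mpr fun h => hu (Units.ext h)
  have h0 : (u : K) ^ 2 + u + 1 = 0 := by
    refine (mul_eq_zero.mp (show ((u : K) - 1) * ((u : K) ^ 2 + u + 1) = 0 by linear_combination h3)).resolve_left hne
  exact ⟨fHom (u : K) (by
    linear_combination h0 - ((u : K) + 1) * (CharTwo.two_eq_zero : (2 : K) = 0)), trivial⟩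

theorem xCheck_all : ∀ i < 20, xCheck i = true := by
  intro i hi
  interval_cases i
  exacts [xCheck_0, xCheck_1, xCheck_2, xCheck_3, xCheck_4, xCheck_5, xCheck_6, xCheck_7, xCheck_8, xCheck_9,
    xCheck_10, xCheck_11, xCheck_12, xCheck_13, xCheck_14, xCheck_15, xCheck_16, xCheck_17, xCheck_18, xCheck_19]

variable {K : Type*} [Field K] (f : Q4 →+* K)

/-- A root element used. -/
noncomputable def xK (i : ℕ) : GL chevE6.Idx K :=
  xg e6Good K (xData.getD i (0, 0, idPl)).1 (f (code (xData.getD i (0, 0, idPl)).2.1))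

/-- The matrix over the field of a matrix over the quadratic algebra. -/
noncomputable abbrev mapK : Matrix chevE6.Idx chevE6.Idx Q4 →+* Matrix chevE6.Idx chevE6.Idx K := f.mapMatrix

theorem val_xK (i : ℕ) : (xK f i : Matrix chevE6.Idx chevE6.Idx K) = mapK f (toQ (xg4 i)) := by
  by_cases hi : i < 20
  · have h := xOK_spec (xCheck_all i hi)
    have hr : (xData.getD i (0, 0, idPl)).1 < chevE6.nroots := by
      clear h; revert i; decide +kernel
    rw [← h]
    show chevE6.x K _ _ = (xR chevE6 Q4 _ _).map f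
    rw [xR_map, x_eq_xR _ hr]
  · have hl : xData.length ≤ i := by rw [bdd_data.2.1]; omega
    rw [xK, xg4, List.getD_eq_default _ _ hl, toQ_idPl, map_one]
    show chevE6.x K 0 (f (code 0)) = 1
    rw [show code 0 = 0 from rfl, map_zero]
    exact congrArg Units.val (xg_zero e6Good (F := K) 0)

theorem val_word (w : List ℕ) :
    ((w.map (xK f)).prod : GL chevE6.Idx K) = mapK f ((w.map fun i => toQ (xg4 i)).prod) := by
  induction w with
  | nil => rw [List.map_nil, List.map_nil, List.prod_nil, List.prod_nil, map_one]; rfl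
  | cons a w ih => rw [List.map_cons, List.map_cons, List.prod_cons, List.prod_cons, map_mul, ← val_xK, ← ih]; rfl

/-- One of the nine elements. -/
noncomputable def yK (k : ℕ) : GL chevE6.Idx K := ((fiWords.getD k []).map (xK f)).prod

theorem val_yK (k : ℕ) : (yK f k : Matrix chevE6.Idx chevE6.Idx K) = mapK f (toQ (yg k)) := by
  rw [yK, val_word]
  congr 1
  by_cases hk : k < 9
  · exact toQ_eq_of_evalK_lit bdd_xg4 (fun _ => rfl) (bdd_yg k)
      (beq_iff_eq.mp (List.all_eq_true.mp word_check k (List.mem_range.mpr hk)))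
  · rw [List.getD_eq_default _ _ (show fiWords.length ≤ k from not_lt.mp hk), yg,
      List.getD_eq_default _ _ (by rw [bdd_data.2.2.2]; omega), toQ_idPl, List.map_nil, List.prod_nil]

theorem wd_yK_eq {u w : List ℕ} (h : evalK yg u = evalK yg w) : wd (yK f) u = wd (yK f) w := by
  have hv : ∀ w : List ℕ, ((wd (yK f) w : GL chevE6.Idx K) : Matrix chevE6.Idx chevE6.Idx K) =
      mapK f ((w.map fun k => toQ (yg k)).prod) := by
    intro w
    induction w with
    | nil => rw [CoxStem.wd_nil, List.map_nil, List.prod_nil, map_one]; rfl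
    | cons a w ih => rw [CoxStem.wd_cons, Units.val_mul, ih, val_yK, List.map_cons, List.prod_cons, map_mul]
  exact Units.ext (by rw [hv, hv, toQ_eq_of_evalK bdd_yg (fun _ => rfl) h])

theorem yK_rel : Rel edges22 (yK f) := by
  have hout : ∀ k, 9 ≤ k → yK f k = 1 := fun k hk => by
    rw [yK, List.getD_eq_default _ _ (show fiWords.length ≤ k from hk), List.map_nil, List.prod_nil]
  have hsq : ∀ k, yK f k * yK f k = 1 := by
    intro k
    by_cases hk : k < 9
    · simpa [wd] using wd_yK_eq f (u := [k, k]) (w := [])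
        (beq_iff_eq.mp (List.all_eq_true.mp sq_check k (List.mem_range.mpr hk)))
    · rw [hout k (not_lt.mp hk), one_mul]
  have hchk := cox_check
  simp only [List.all_eq_true, List.mem_range] at hchk
  refine ⟨hsq, ?_, fun x y hxy ha => ?_⟩
  · intro e he
    have hlt : e.1 < 9 ∧ e.2 < 9 ∧ Nat.beq e.1 e.2 = false ∧ adjB edges22 e.1 e.2 = true := by
      clear hchk; revert e; decide
    have h := hchk e.1 hlt.1 e.2 hlt.2.1
    rw [hlt.2.2.1, hlt.2.2.2] at h
    simpa [wd, mul_assoc] using wd_yK_eq f (beq_iff_eq.mp h)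
  · by_cases hx : x < 9
    · by_cases hy : y < 9
      · have h := hchk x hx y hy
        rw [show Nat.beq x y = false from Bool.eq_false_iff.mpr fun e => hxy (Nat.eq_of_beq_eq_true e), ha] at h
        simpa [wd] using wd_yK_eq f (beq_iff_eq.mp h)
      · rw [hout y (not_lt.mp hy), one_mul, mul_one]
    · rw [hout x (not_lt.mp hx), one_mul, mul_one]

theorem op_check : (∀ k < 9, fiWords.getD k [] = (opWords.getD k []).flatMap fun j => opGens.getD j []) ∧
    (∀ k < 9, ∀ j ∈ opWords.getD k [], j < 12) ∧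
    ∀ j < 12, (∃ r ∈ [e6p2, e6m2, e6p4, e6m4],
        (opGens.getD j []).map (fun i => ((xData.getD i (0, 0, idPl)).1, code (xData.getD i (0, 0, idPl)).2.1)) = [(r, 1)]) ∨
      ∃ c ∈ [1, 2, 3], ∃ rs ∈ [(e6p1, e6p6), (e6m1, e6m6), (e6p3, e6p5), (e6m3, e6m5)],
        (opGens.getD j []).map (fun i => ((xData.getD i (0, 0, idPl)).1, code (xData.getD i (0, 0, idPl)).2.1)) =
          [(rs.1, code c), (rs.2, code c ^ 2)] := by
  decide +kernel

theorem gen_mem {j : ℕ} (hj : j < 12) : ((opGens.getD j []).map (xK f)).prod ∈ twistedE6 K 2 := by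
  have hval : ∀ (l : List ℕ) (W : List (ℕ × Q4)),
      l.map (fun i => ((xData.getD i (0, 0, idPl)).1, code (xData.getD i (0, 0, idPl)).2.1)) = W →
      (((l.map (xK f)).prod : GL chevE6.Idx K) : Matrix chevE6.Idx chevE6.Idx K) =
        chevE6.wordMat K (W.map fun p => (p.1, f p.2)) := by
    rintro l W rfl
    induction l with
    | nil => rfl
    | cons a l ih =>
      rw [List.map_cons, List.prod_cons, Units.val_mul, ih]
      rfl
  rcases op_check.2.2 j hj with ⟨r, hr, e⟩ | ⟨c, -, rs, hrs, e⟩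
  · refine Subgroup.subset_closure ⟨[(r, (1 : K))], Or.inl ⟨1, one_pow 2, r, hr, rfl⟩, ?_⟩
    rw [hval _ _ e]
    simp
  · refine Subgroup.subset_closure ⟨[(rs.1, f (code c)), (rs.2, f (code c) ^ 2)],
      Or.inr ⟨f (code c), rs, hrs, rfl⟩, ?_⟩
    rw [hval _ _ e]
    simp

theorem yK_mem {k : ℕ} (hk : k < 9) : yK f k ∈ twistedE6 K 2 := by
  obtain ⟨h1, h2, -⟩ := op_check
  rw [yK, h1 k hk, List.flatMap_def, List.map_flatten, List.prod_flatten, List.map_map, List.map_map]
  refine Subgroup.list_prod_mem _ fun x hx => ?_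
  obtain ⟨j, hj, rfl⟩ := List.mem_map.mp hx
  exact gen_mem f (h2 k hk j hj)

/-- The nine elements define a homomorphism of Fi22 into ²E₆(2). -/
theorem exists_fi22Hom : ∃ ψ : Cfsg.Spor.Fi22 →* GL chevE6.Idx K,
    (∀ a, ψ (PresentedGroup.of a) = yK f (CoxStem.idx22 a)) ∧ (∀ x, ψ x ∈ twistedE6 K 2) ∧ ψ ≠ 1 := by
  have hR := yK_rel f
  have hrel : ∀ r ∈ Cfsg.Spor.coxRelators Cfsg.Spor.Fi22.edges ∪ {r | r ∈ Cfsg.Spor.Fi22.extra},
      FreeGroup.lift (fun a => yK f (CoxStem.idx22 a)) r = 1 := by
    rintro r (hr | hr)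
    · exact (CoxStem.cox_value (A := Multiplicative (ZMod 2)) (p := 1) CoxStem.graph22 CoxStem.idx22
        CoxStem.idx22_spec hR (one_mul 1) hr).1
    · have hr' : r ∈ Cfsg.Spor.Fi22.extra := hr
      simp only [Cfsg.Spor.Fi22.extra, List.mem_cons, List.not_mem_nil, or_false] at hr'
      have hpow : ∀ (l : List ℕ) (n : ℕ), wd (yK f) (List.replicate n l).flatten = wd (yK f) l ^ n := by
        intro l n
        rw [wd, wd, List.map_flatten, List.prod_flatten, List.map_map, List.map_replicate, List.prod_replicate]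
        rfl
      rcases hr' with rfl | rfl | rfl
      · rw [show FreeGroup.lift (fun a => yK f (CoxStem.idx22 a)) _ = wd (yK f) spider ^ 10 by
          simp [CoxStem.idx22, wd, spider, mul_assoc], ← hpow]
        exact wd_yK_eq f (w := []) spider_check
      · rw [show FreeGroup.lift (fun a => yK f (CoxStem.idx22 a)) _ = wd (yK f) e7Word ^ 9 by
          simp [CoxStem.idx22, wd, e7Word, mul_assoc], ← hpow]
        exact wd_yK_eq f (w := []) e7_check.1
      · rw [show FreeGroup.lift (fun a => yK f (CoxStem.idx22 a)) _ = wd (yK f) e7Word' ^ 9 by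
          simp [CoxStem.idx22, wd, e7Word', mul_assoc], ← hpow]
        exact wd_yK_eq f (w := []) e7_check.2
  refine ⟨PresentedGroup.toGroup hrel, fun a => PresentedGroup.toGroup.of hrel, fun x => ?_, fun h => ?_⟩
  · obtain ⟨w, rfl⟩ := PresentedGroup.mk_surjective _ x
    induction w using FreeGroup.induction_on with
    | C1 => rw [map_one, map_one]; exact one_mem _
    | of a =>
      show PresentedGroup.toGroup hrel (PresentedGroup.of a) ∈ _
      rw [PresentedGroup.toGroup.of hrel]
      exact yK_mem f (CoxStem.idx22_spec a).1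
    | inv_of a ih => rw [map_inv, map_inv]; exact inv_mem ih
    | mul a b ha hb => rw [map_mul, map_mul]; exact mul_mem ha hb
  · have e0 : yK f 0 = 1 := by
      rw [← show CoxStem.idx22 .a = 0 from rfl, ← PresentedGroup.toGroup.of hrel, h]; rfl
    have e1 : mapK f (toQ (yg 0)) (eI.symm 0) (eI.symm 64) = 0 := by
      rw [← val_yK, e0]
      exact Matrix.one_apply_ne (eI.symm.injective.ne (by decide))
    have e2 : toQ (yg 0) (eI.symm 0) (eI.symm 64) = 1 := by decide +kernel
    rw [RingHom.mapMatrix_apply, Matrix.map_apply, e2, map_one] at e1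
    exact one_ne_zero e1

end Cfsg.Agent.Fi22E6
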