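/-
Only scalars commute with the nine matrices.

Main result: `eq_scalar_of_commute`.
-/
import Cfsg.Agent.Lib.Fi22E6.Hom
import Cfsg.Agent.Lib.Fi22E6.CentDefs

set_option autoImplicit false
set_option maxRecDepth 100000

namespace Cfsg.Agent.Fi22E6

open Cfsg.Lie Cfsg.Agent.BitMat

theorem bdd_vm {j : ℕ} (hj : j < 78) : bddP (vm (ov j)) = true :=
  List.all_eq_true.mp cent_bdd.1 j (List.mem_range.mpr hj)

theorem toQ_of_mulK {p q r : Pl} (hp : bddP p = true) (hq : bddP q = true) (hr : bddP r = true)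
    (h : mulK p (pk q) = pk r) : toQ p * toQ q = toQ r := by
  rw [← toQ_mulPl (bddP.long hp) (bddP.long hq), eq_of_pk (bdd_mulPl hp hq) hr (by rw [pk_mulPl hp hq, h])]

theorem bdd_addPl {p q : Pl} (hp : bddP p = true) (hq : bddP q = true) : bddP (addPl p q) = true := by
  simp only [bddP, Bool.and_eq_true] at hp hq ⊢
  exact ⟨bddB_addB hp.1 hq.1, bddB_addB hp.2 hq.2⟩

theorem toQ_addPl {p q : Pl} (hp : bddP p = true) (hq : bddP q = true) : toQ (addPl p q) = toQ p + toQ q := by
  obtain ⟨h1, h2⟩ := bddP.long hp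
  obtain ⟨h3, h4⟩ := bddP.long hq
  refine Matrix.ext fun i j => QuadraticAlgebra.ext ?_ ?_
  · show toMat eI (addB p.1 q.1) i j = (toQ p i j + toQ q i j).re
    rw [toMat_addB eI h1 h3, Matrix.add_apply, QuadraticAlgebra.re_add]
    rfl
  · show toMat eI (addB p.2 q.2) i j = (toQ p i j + toQ q i j).im
    rw [toMat_addB eI h2 h4, Matrix.add_apply, QuadraticAlgebra.im_add]
    rfl

/-- The matrix with all columns equal to a vector of the orbit. -/
def vQ (j : ℕ) : Matrix chevE6.Idx chevE6.Idx Q4 := toQ (vm (ov j))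

theorem tree_spec {j : ℕ} (hj : j < 77) : (orbTree.getD j (0, 0)).2 ≤ j ∧
    toQ (yg (orbTree.getD j (0, 0)).1) * vQ (orbTree.getD j (0, 0)).2 = vQ (j + 1) := by
  have h := List.all_eq_true.mp tree_check j (List.mem_range.mpr hj)
  simp only [Bool.and_eq_true, Nat.blt_eq, beq_iff_eq] at h
  obtain ⟨h1, h2⟩ := h
  exact ⟨Nat.lt_succ_iff.mp h1, toQ_of_mulK (bdd_yg _) (bdd_vm (by omega)) (bdd_vm (by omega)) h2⟩

theorem fix_sum : (fixCoef.map fun c => toQ c.2 * (toQ (yg c.1) + 1)).sum = 1 + toQ projPl := by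
  have key : ∀ l : List (ℕ × Pl), (∀ c ∈ l, bddP c.2 = true) → ∃ P : Pl, bddP P = true ∧
      pk P = l.foldr (fun c s => let m := mulK c.2 (pk (addPl (yg c.1) idPl)); (m.1 ^^^ s.1, m.2 ^^^ s.2)) (0, 0) ∧
      (l.map fun c => toQ c.2 * (toQ (yg c.1) + 1)).sum = toQ P := by
    intro l
    induction l with
    | nil =>
      intro _
      refine ⟨(List.replicate 78 0, List.replicate 78 0), by decide +kernel, by decide +kernel, ?_⟩
      refine Matrix.ext fun i j => ?_
      show (0 : Q4) = ⟨toMat eI (List.replicate 78 0) i j, toMat eI (List.replicate 78 0) i j⟩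
      rw [toMat_zero]
      rfl
    | cons c l ih =>
      intro hl
      obtain ⟨P, hP, hpk, hsum⟩ := ih fun d hd => hl d (List.mem_cons_of_mem _ hd)
      have hc := hl c List.mem_cons_self
      have hY := bdd_addPl (bdd_yg c.1) bdd_idPl
      refine ⟨addPl (mulPl c.2 (addPl (yg c.1) idPl)) P, bdd_addPl (bdd_mulPl hc hY) hP, ?_, ?_⟩
      · rw [List.foldr_cons, ← hpk, ← pk_mulPl hc hY]
        have h1 := bdd_mulPl hc hY
        simp only [bddP, Bool.and_eq_true] at h1 hP
        exact Prod.ext (packB_addB' h1.1 hP.1) (packB_addB' h1.2 hP.2)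
      · rw [List.map_cons, List.sum_cons, hsum, toQ_addPl (bdd_mulPl hc hY) hP,
          toQ_mulPl (bddP.long hc) (bddP.long hY), toQ_addPl (bdd_yg _) bdd_idPl, toQ_idPl]
  obtain ⟨-, hF, hproj, -, -, -, -, -⟩ := cent_bdd
  obtain ⟨P, hP, hpk, hsum⟩ := key fixCoef (fun c hc => List.all_eq_true.mp hF c hc)
  rw [hsum, eq_of_pk hP (bdd_addPl bdd_idPl hproj) (hpk.trans fix_check.1), toQ_addPl bdd_idPl hproj, toQ_idPl]

theorem getD_replicate' (a : ℕ) (k : Fin 78) : (List.replicate 78 a).getD k 0 = a := by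
  rw [List.getD_eq_getElem _ _ (show (k : ℕ) < _ by simp), List.getElem_replicate]

theorem getD_map_range' (g : ℕ → ℕ) (k : Fin 78) : ((List.range 78).map g).getD k 0 = g k := by
  rw [List.getD_eq_getElem _ _ (show (k : ℕ) < _ by simp), List.getElem_map, List.getElem_range]

theorem vQ_col {j : ℕ} (i k k' : chevE6.Idx) : vQ j i k = vQ j i k' := by
  simp only [vQ, toQ, toMat, vm, getD_replicate']

theorem proj_apply (i k : chevE6.Idx) :
    toQ projPl i k = if (eI k : ℕ) = fixIdx then vQ 0 i k else 0 := by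
  by_cases hk : (eI k : ℕ) = fixIdx
  · rw [if_pos hk]
    simp only [vQ, toQ, toMat, projPl, vm, getD_replicate', getD_map_range']
    simp [hk]
  · rw [if_neg hk]
    simp only [toQ, toMat, projPl, getD_map_range']
    simp [hk, bitVal_zero]
    rfl

theorem orb_apply (i k : chevE6.Idx) : toQ orbPl i k = vQ (eI k) i k := by
  simp only [vQ, toQ, toMat, vm, orbPl]
  have hl : orbVecs.length = 78 := cent_bdd.2.2.2.2.2.1
  have hk : (eI k : ℕ) < orbVecs.length := by rw [hl]; exact (eI k).2
  rw [List.getD_eq_getElem _ _ (show (eI k : ℕ) < _ by rwa [List.length_map]),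
    List.getD_eq_getElem _ _ (show (eI k : ℕ) < _ by rwa [List.length_map]),
    getD_replicate', getD_replicate', List.getElem_map, List.getElem_map, ov,
    List.getD_eq_getElem _ _ hk]

variable {K : Type*} [Field K] [CharP K 2] (f : Q4 →+* K)

/-- The certificate does not use the first matrix. -/
theorem cent_pos : (∀ c ∈ fixCoef, 1 ≤ c.1) ∧ ∀ j < 77, 1 ≤ (orbTree.getD j (0, 0)).1 := by
  decide +kernel

/-- A matrix commuting with the eight matrices other than the first is a scalar. -/
theorem eq_scalar_of_commute (T : Matrix chevE6.Idx chevE6.Idx K)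
    (hT : ∀ k, 1 ≤ k → k < 9 → T * mapK f (toQ (yg k)) = mapK f (toQ (yg k)) * T) :
    ∃ lam : K, T = lam • 1 := by
  set A := fun k => mapK f (toQ (yg k)) with hA
  set V := fun j => mapK f (vQ j) with hV
  have hT' : ∀ k, 1 ≤ k → T * A k = A k * T := by
    intro k hk1
    by_cases hk : k < 9
    · exact hT k hk1 hk
    · have : yg k = idPl := List.getD_eq_default _ _ (by rw [bdd_data.2.2.2]; omega)
      simp [hA, this, toQ_idPl]
  -- the first vector is fixed
  have hfix : ∀ c ∈ fixCoef, A c.1 * V 0 = V 0 := by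
    intro c hc
    have h := beq_iff_eq.mp (List.all_eq_true.mp fix_check.2 c hc)
    simp only [hA, hV, vQ, ← map_mul, toQ_of_mulK (bdd_yg _) (bdd_vm (by norm_num)) (bdd_vm (by norm_num)) h]
  set W := T * V 0 with hW
  have hzero : ∀ c ∈ fixCoef, (A c.1 + 1) * W = 0 := by
    intro c hc
    rw [add_mul, one_mul, hW, ← mul_assoc, ← hT' _ (cent_pos.1 c hc), mul_assoc, hfix c hc]
    exact Matrix.ext fun _ _ => CharTwo.add_self_eq_zero _
  have hE : mapK f (toQ projPl) * W = W := by
    have h0 : ((fixCoef.map fun c => mapK f (toQ c.2) * (A c.1 + 1)).sum) * W = 0 := by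
      rw [← List.sum_map_mul_right]
      refine List.sum_eq_zero fun x hx => ?_
      obtain ⟨c, hc, rfl⟩ := List.mem_map.mp hx
      rw [mul_assoc, hzero c hc, mul_zero]
    have h1 : (fixCoef.map fun c => mapK f (toQ c.2) * (A c.1 + 1)).sum = 1 + mapK f (toQ projPl) := by
      rw [← map_one (mapK f), ← map_add, ← fix_sum, map_list_sum, List.map_map]
      refine congrArg List.sum (List.map_congr_left fun c _ => ?_)
      simp only [hA, Function.comp_apply, map_mul, map_add, map_one]
    rw [h1, add_mul, one_mul] at h0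
    refine Matrix.ext fun i j => ?_
    have := congrFun (congrFun h0 i) j
    rw [Matrix.add_apply, Matrix.zero_apply, CharTwo.add_eq_zero] at this
    exact this.symm
  let p : chevE6.Idx := eI.symm ⟨fixIdx, cent_bdd.2.2.2.2.2.2.2⟩
  set lam := W p p with hlam
  have hW' : W = lam • V 0 := by
    refine Matrix.ext fun i j => ?_
    have h := congrFun (congrFun hE i) j
    rw [Matrix.mul_apply, Finset.sum_eq_single p ?_ ?_] at h
    · rw [← h, RingHom.mapMatrix_apply, Matrix.map_apply, proj_apply, if_pos (by simp [p]), Matrix.smul_apply,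
        smul_eq_mul, mul_comm, hlam, hW, Matrix.mul_apply, Matrix.mul_apply,
        show ((vQ 0 i p).re, (vQ 0 i p).im) = ((vQ 0 i j).re, (vQ 0 i j).im) → vQ 0 i p = vQ 0 i j from
          fun _ => vQ_col i p j]
      · refine congrArg (· * _) (Finset.sum_congr rfl fun l _ => ?_)
        simp only [hV, RingHom.mapMatrix_apply, Matrix.map_apply, vQ_col l p j]
      · rw [vQ_col i p j]
    · intro l _ hl
      rw [RingHom.mapMatrix_apply, Matrix.map_apply, proj_apply, if_neg, map_zero, zero_mul]
      intro e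
      exact hl (eI.injective (Fin.ext (by simpa [p] using e)))
    · intro hp
      exact absurd (Finset.mem_univ p) hp
  have horb : ∀ j < 78, T * V j = lam • V j := by
    intro j
    induction j using Nat.strong_induction_on with
    | _ j ih =>
      intro hj
      rcases j with _ | j
      · exact hW'
      obtain ⟨hp, he⟩ := tree_spec (j := j) (by omega)
      set k := (orbTree.getD j (0, 0)).1
      set q := (orbTree.getD j (0, 0)).2
      have e1 : V (j + 1) = A k * V q := by simp only [hA, hV, ← map_mul, he]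
      rw [e1, ← mul_assoc, hT' k (cent_pos.2 j (by omega)), mul_assoc, ih q (by omega) (by omega), Matrix.mul_smul]
  refine ⟨lam, ?_⟩
  have hS : T * mapK f (toQ orbPl) = lam • mapK f (toQ orbPl) := by
    refine Matrix.ext fun i k => ?_
    have h := congrFun (congrFun (horb (eI k) (eI k).2) i) k
    simp only [hV, Matrix.mul_apply, Matrix.smul_apply, RingHom.mapMatrix_apply, Matrix.map_apply] at h ⊢
    simp only [orb_apply]
    exact h
  have hinv : mapK f (toQ orbPl) * mapK f (toQ orbInv) = 1 := by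
    rw [← map_mul, toQ_of_mulK cent_bdd.2.2.2.1 cent_bdd.2.2.2.2.1 bdd_idPl inv_check, toQ_idPl, map_one]
  calc T = T * (mapK f (toQ orbPl) * mapK f (toQ orbInv)) := by rw [hinv, mul_one]
    _ = lam • 1 := by rw [← mul_assoc, hS, Matrix.smul_mul, hinv]

end Cfsg.Agent.Fi22E6
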