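/-
Diagonal twists of a subgroup with scalar centraliser and outer automorphism group of order two.

Main results: `diagC_mul`, `twist_eq`.
-/
import Cfsg.Agent.Lib.TwistE6Sub.Subfield
import Cfsg.Prelude.Def_KGroupFacts

set_option autoImplicit false
set_option maxRecDepth 100000

namespace Cfsg.Agent.Fi22E6

open Cfsg.Lie Cfsg.Lie.ChevalleyDatum Cfsg.Agent.Chev Cfsg.Agent.ChevBN Cfsg.Agent.TwistE6Sub
open Cfsg.Agent.TwistE6D4 (e6Twist ctxE6)
open Cfsg.Agent.ChevFoldF4 (e6Good)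

variable {K : Type*} [Field K]

theorem diagC_mul (c d : Fin chevE6.rank → Kˣ) : diagC (fun i => c i * d i) = diagC c * diagC d := by
  refine Units.ext ?_
  show chevE6.charDiag K (ChevAut.chiOf chevE6 adjE6 3 fun i => c i * d i) =
    chevE6.charDiag K (ChevAut.chiOf chevE6 adjE6 3 c) * chevE6.charDiag K (ChevAut.chiOf chevE6 adjE6 3 d)
  rw [ChevAut.charDiag_mul]
  congr 1
  funext r
  simp only [ChevAut.chiOf, mul_zpow, Finset.prod_mul_distrib]

theorem diagC_one : diagC (fun _ => (1 : Kˣ)) = 1 := by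
  have h := diagC_mul (fun _ => (1 : Kˣ)) (fun _ => 1)
  simp only [mul_one] at h
  exact left_eq_mul.mp h

theorem diagC_inv (c : Fin chevE6.rank → Kˣ) : diagC (fun i => (c i)⁻¹) = (diagC c)⁻¹ := by
  refine eq_inv_of_mul_eq_one_left ?_
  rw [← diagC_mul]
  simp only [inv_mul_cancel]
  exact diagC_one

/-- An element normalising a subgroup induces a square that is inner on it. -/
theorem sq_inner {G S : Type*} [Group G] [Group S] (ψ : S →* G) (hψ : Function.Injective ψ)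
    (hout : Nat.card (Cfsg.Out S) = 2) (x : G) (hx : ∀ g, g ∈ ψ.range ↔ x * g * x⁻¹ ∈ ψ.range) :
    ∃ s : S, ∀ z : S, x * x * ψ z * (x * x)⁻¹ = ψ s * ψ z * (ψ s)⁻¹ := by
  let e : S ≃* ψ.range := MonoidHom.ofInjective hψ
  let c : ψ.range ≃* ψ.range :=
    { toFun := fun g => ⟨x * g * x⁻¹, (hx g).1 g.2⟩
      invFun := fun g => ⟨x⁻¹ * g * x, (hx _).2 (by
        rw [show x * (x⁻¹ * g * x) * x⁻¹ = (g : G) by group]; exact g.2)⟩
      left_inv := fun g => Subtype.ext (by show x⁻¹ * (x * g * x⁻¹) * x = g; group)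
      right_inv := fun g => Subtype.ext (by show x * (x⁻¹ * g * x) * x⁻¹ = g; group)
      map_mul' := fun g h => Subtype.ext (by
        show x * (g * h) * x⁻¹ = x * g * x⁻¹ * (x * h * x⁻¹); group) }
  let α : MulAut S := (e.trans c).trans e.symm
  have hα : ∀ z, ψ (α z) = x * ψ z * x⁻¹ := by
    intro z
    have h := congrArg Subtype.val (e.apply_symm_apply (c (e z)))
    exact h
  haveI : Finite (Cfsg.Out S) := Nat.finite_of_card_ne_zero (by omega)
  have h2 : (QuotientGroup.mk α : Cfsg.Out S) ^ 2 = 1 := by rw [← hout]; exact pow_card_eq_one'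
  have hin : α ^ 2 ∈ Cfsg.Inn S := by
    rw [← QuotientGroup.eq_one_iff, QuotientGroup.mk_pow]; exact h2
  obtain ⟨s, hs⟩ := hin
  refine ⟨s, fun z => ?_⟩
  have h := congrArg (fun β : MulAut S => ψ (β z)) hs
  simp only [pow_two, MulAut.mul_apply, MulAut.conj_apply, hα, map_mul, map_inv] at h
  rw [h]
  group

variable [Fintype K] [CharP K 2] (φ : K →+* K)

/-- Conjugacy of two diagonal twists forces equal invariants. -/
theorem twist_eq (hcube : ∀ t : Kˣ, t ^ 3 = 1) {S : Type*} [Group S] (ψ : S →* GL chevE6.Idx K)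
    (hψ : Function.Injective ψ) (hout : Nat.card (Cfsg.Out S) = 2)
    (hG : ∀ z, ψ z ∈ (ctxE6 e6Good φ).G0)
    (hscal : ∀ T : GL chevE6.Idx K, (∀ z, T * ψ z = ψ z * T) → ∀ g, T * g = g * T)
    {c d : Fin chevE6.rank → Kˣ}
    (hc : ∀ i, (c (e6Twist.pi i) : K) = φ (c i)) (hd : ∀ i, (d (e6Twist.pi i) : K) = φ (d i))
    {g : GL chevE6.Idx K} (hg : g ∈ (ctxE6 e6Good φ).G0)
    (h : ∀ y, y ∈ ψ.range ↔ (diagC d)⁻¹ * (g * (diagC c * y * (diagC c)⁻¹) * g⁻¹) * diagC d ∈ ψ.range) :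
    inv3 c = inv3 d := by
  set C := ctxE6 e6Good φ
  set x := (diagC d)⁻¹ * g * diagC c with hx
  have hsymm : ∀ {u : Fin chevE6.rank → Kˣ}, (∀ i, (u (e6Twist.pi i) : K) = φ (u i)) →
      ∀ i, (((fun j => (u j)⁻¹) (e6Twist.pi i) : Kˣ) : K) = φ (((fun j => (u j)⁻¹) i : Kˣ) : K) := by
    intro u hu i
    rw [Units.val_inv_eq_inv_val, Units.val_inv_eq_inv_val, hu, map_inv₀]
  have hxn : ∀ y, y ∈ ψ.range ↔ x * y * x⁻¹ ∈ ψ.range := by
    intro y
    rw [h y, show x * y * x⁻¹ = (diagC d)⁻¹ * (g * (diagC c * y * (diagC c)⁻¹) * g⁻¹) * diagC d by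
      rw [hx]; group]
  obtain ⟨s, hs⟩ := sq_inner ψ hψ hout x hxn
  set T := (ψ s)⁻¹ * (x * x) with hT
  have hTc : ∀ y, T * y = y * T := hscal T fun z => by
    calc T * ψ z = (ψ s)⁻¹ * (x * x * ψ z * (x * x)⁻¹) * (x * x) := by rw [hT]; group
      _ = (ψ s)⁻¹ * (ψ s * ψ z * (ψ s)⁻¹) * (x * x) := by rw [hs]
      _ = ψ z * T := by rw [hT]; group
  let r : Fin chevE6.rank → Kˣ := fun i => c i * (d i)⁻¹
  have hr : ∀ i, (r (e6Twist.pi i) : K) = φ (r i) := fun i => by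
    simp only [r, Units.val_mul, Units.val_inv_eq_inv_val, map_mul, map_inv₀, hc, hd]
  let e2 : Fin chevE6.rank → Kˣ := fun i => r i * r i
  have he2 : ∀ i, (e2 (e6Twist.pi i) : K) = φ (e2 i) := fun i => by
    simp only [e2, Units.val_mul, map_mul, hr]
  set E := (diagC d)⁻¹ * diagC c with hE
  have hEr : diagC r = E := by
    rw [hE, ← diagC_inv, ← diagC_mul]
    congr 1
    funext i
    exact mul_comm _ _
  have hEE : diagC e2 = E * E := by rw [← hEr, ← diagC_mul]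
  set g1 := (diagC c)⁻¹ * g * diagC c with hg1
  have hg1m : g1 ∈ C.G0 := by
    have := diagC_conj_G0 φ (c := fun i => (c i)⁻¹) (hsymm hc) hg
    rwa [diagC_inv, inv_inv] at this
  have hg2m : E⁻¹ * g1 * E * g1 ∈ C.G0 := by
    refine mul_mem ?_ hg1m
    have := diagC_conj_G0 φ (c := fun i => (r i)⁻¹) (hsymm hr) hg1m
    rwa [diagC_inv, hEr, inv_inv] at this
  set g3 := (diagC e2)⁻¹ * T with hg3
  have hg3m : g3 ∈ C.G0 := by
    have hh : (diagC e2)⁻¹ * (ψ s)⁻¹ * diagC e2 ∈ C.G0 := by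
      have := diagC_conj_G0 φ (c := fun i => (e2 i)⁻¹) (hsymm he2) (inv_mem (hG s))
      rwa [diagC_inv, inv_inv] at this
    have e : g3 = (diagC e2)⁻¹ * (ψ s)⁻¹ * diagC e2 * (E⁻¹ * g1 * E * g1) := by
      rw [hg3, hT, hx, hEE, hg1, hE]
      group
    rw [e]
    exact mul_mem hh hg2m
  have hkey : inv3 e2 = inv3 (fun _ : Fin chevE6.rank => (1 : Kˣ)) := by
    refine diag_trivial φ hcube he2 (fun i => by simp) hg3m fun z hz => ?_
    rw [diagC_one, inv_one, one_mul, mul_one]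
    have : g3 * (diagC e2 * z * (diagC e2)⁻¹) * g3⁻¹ = z := by
      rw [hg3]
      calc (diagC e2)⁻¹ * T * (diagC e2 * z * (diagC e2)⁻¹) * ((diagC e2)⁻¹ * T)⁻¹
          = (diagC e2)⁻¹ * (T * (diagC e2 * z * (diagC e2)⁻¹) * T⁻¹) * diagC e2 := by group
        _ = z := by rw [hTc, mul_inv_cancel_right]; group
    rwa [this]
  have h1 : inv3 (fun _ : Fin chevE6.rank => (1 : Kˣ)) = 1 := by simp [inv3]
  have h2 : inv3 e2 = (inv3 c * (inv3 d)⁻¹) ^ 2 := by
    simp only [inv3, e2, r, mul_pow, mul_inv_rev, inv_pow, pow_two]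
    ac_rfl
  rw [h1, h2] at hkey
  refine mul_inv_eq_one.mp ?_
  have h3 := hcube (inv3 c * (inv3 d)⁻¹)
  rwa [pow_succ, hkey, one_mul] at h3

end Cfsg.Agent.Fi22E6
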